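import Groth.Agent.GrpSchLib.OrbitImmersion
import Groth.Agent.GrpSchLib.Core
import Groth.Agent.GrpSchLib.SepPoints
import Groth.Agent.RedHomogTop.Basic
import Groth.Agent.RedHomogTop.Dim
import Groth.Agent.AlgStLib.MonoQuotGrp
import Mathlib.AlgebraicGeometry.Morphisms.FlatDescent
import Mathlib.AlgebraicGeometry.Morphisms.Proper

/-! An orbit map with closed image and proper stabiliser is proper. -/

set_option backward.isDefEq.respectTransparency false
set_option backward.isDefEq.respectTransparency.types false
set_option linter.style.haveILetI false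

universe u

open CategoryTheory CategoryTheory.Limits MonoidalCategory CartesianMonoidalCategory MonObj AlgebraicGeometry

namespace Groth.Agent.OrbitProper

variable {k : Type u} [Field k] [IsAlgClosed k]
variable {G X : Over (Spec (CommRingCat.of k))} [GrpObj G] [LocallyOfFiniteType G.hom] [QuasiCompact G.hom]
  [LocallyOfFiniteType X.hom] [QuasiCompact X.hom]

theorem isProper_orbitMap (a : AlgGrp.Action G X) (x : 𝟙_ (Over (Spec (CommRingCat.of k))) ⟶ X)
    (hcl : IsClosed (Set.range (a.orbitMap x).left))
    (hH : UniversallyClosed (pullback (a.orbitMap x) x).hom) : IsProper (a.orbitMap x).left := by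
  haveI : IsLocallyNoetherian X.left := LocallyOfFiniteType.isLocallyNoetherian X.hom
  haveI : IsLocallyNoetherian G.left := LocallyOfFiniteType.isLocallyNoetherian G.hom
  haveI : IsSeparated G.hom :=
    (isSeparated_iff G.hom).mpr ((GrpSchLib.diagonal_iff_unit @IsClosedImmersion).mpr inferInstance)
  set f := a.orbitMap x with hf
  haveI : IsSeparated f.left := by
    haveI : IsSeparated (f.left ≫ X.hom) := by rw [Over.w f]; infer_instance
    exact IsSeparated.of_comp f.left X.hom
  haveI : LocallyOfFiniteType f.left := by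
    haveI : LocallyOfFiniteType (f.left ≫ X.hom) := by rw [Over.w f]; infer_instance
    exact locallyOfFiniteType_of_comp f.left X.hom
  suffices UniversallyClosed f.left from {}
  -- the factorisation through the quotient by the stabiliser
  have hflat : Flat (pullback f x).hom := by
    have : Flat (𝟙 (pullback f x).left ≫ (pullback f x).hom) := by
      rw [Category.id_comp]
      infer_instance
    rwa [Category.id_comp] at this
  obtain ⟨Q, p, i, hpi, _, _, _, _, _, sq⟩ := AlgStLib.MonoFactor.exists_quot_stab a x hflat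
  haveI : IsLocallyNoetherian Q.left := LocallyOfFiniteType.isLocallyNoetherian Q.hom
  haveI : QuasiSeparated Q.hom := (quasiSeparated_iff_quasiSeparatedSpace _).mpr inferInstance
  haveI : QuasiCompact p.left := by
    haveI : QuasiCompact (p.left ≫ Q.hom) := by rw [Over.w p]; infer_instance
    exact QuasiCompact.of_comp p.left Q.hom
  haveI hp : UniversallyClosed p.left := by
    have sqL : IsPullback _ _ p.left p.left := sq.map (Over.forget _)
    have h1 : UniversallyClosed (fst G (pullback f x)).left :=
      MorphismProperty.of_isPullback (P := @UniversallyClosed)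
        (IsPullback.of_hasPullback G.hom (pullback f x).hom).flip hH
    have h2 : UniversallyClosed (pullback.fst p.left p.left) := by
      rw [← sqL.flip.isoPullback_inv_fst]
      haveI := h1
      simp only [Over.forget_map]
      infer_instance
    exact MorphismProperty.of_pullback_fst_of_descendsAlong (P := @UniversallyClosed)
      (Q := @Surjective ⊓ @Flat ⊓ @QuasiCompact) ⟨⟨‹_›, ‹_›⟩, ‹_›⟩ h2
  haveI : Mono i.left := inferInstanceAs (Mono ((Over.forget _).map i))
  haveI : LocallyOfFiniteType i.left := by
    haveI : LocallyOfFiniteType (i.left ≫ X.hom) := by rw [Over.w i]; infer_instance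
    exact locallyOfFiniteType_of_comp i.left X.hom
  have hfpi : p.left ≫ i.left = f.left := by rw [← Over.comp_left, hpi]
  haveI : CompactSpace G.left := (quasiCompact_iff_compactSpace G.hom).mp inferInstance
  haveI : CompactSpace Q.left := ⟨by
    rw [← Set.range_eq_univ.mpr p.left.surjective]
    exact isCompact_range p.left.continuous⟩
  have hrange : Set.range i.left = Set.range f.left := by
    rw [← hfpi, Scheme.Hom.comp_base, TopCat.coe_comp]
    exact (p.left.surjective.range_comp _).symm
  -- the reduced orbit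
  obtain ⟨O, jO, _, _, hO⟩ := H23.RedSub.exists_reduced_subscheme X.left hcl.isLocallyClosed
  haveI : IsClosedImmersion jO := .of_isPreimmersion _ (by rw [hO]; exact hcl)
  obtain ⟨R, jR, _, _, hR⟩ := H23.RedSub.exists_reduced_subscheme Q.left
    (isClosed_univ (X := Q.left)).isLocallyClosed
  haveI : Surjective jR := ⟨fun q => by
    have : q ∈ Set.range jR := hR ▸ Set.mem_univ q
    exact this⟩
  have hRr : Set.range (jR ≫ i.left) = Set.range f.left := by
    rw [Scheme.Hom.comp_base, TopCat.coe_comp, jR.surjective.range_comp, hrange]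
  obtain ⟨g, hg⟩ := H23.RedSub.exists_lift (jR ≫ i.left) jO (hRr.trans hO.symm).le
  haveI : Mono (g ≫ jO) := by rw [hg]; infer_instance
  haveI : Mono g := mono_of_mono g jO
  haveI : LocallyOfFiniteType (g ≫ jO) := by rw [hg]; infer_instance
  haveI : LocallyOfFiniteType g := locallyOfFiniteType_of_comp g jO
  haveI : CompactSpace R := by
    haveI : IsClosedImmersion jR := .of_isPreimmersion _ (by rw [hR]; exact isClosed_univ)
    exact jR.isClosedEmbedding.compactSpace
  haveI : IsLocallyNoetherian O := LocallyOfFiniteType.isLocallyNoetherian jO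
  haveI : QuasiSeparatedSpace O := inferInstance
  haveI : QuasiCompact g := by
    haveI : QuasiCompact (g ≫ jO) := by
      rw [hg]
      haveI : QuasiCompact ((jR ≫ i.left) ≫ X.hom) := (quasiCompact_iff_compactSpace _).mpr inferInstance
      exact QuasiCompact.of_comp (jR ≫ i.left) X.hom
    exact QuasiCompact.of_comp g jO
  haveI : Nonempty G.left := ⟨η[G].left (IsLocalRing.closedPoint k)⟩
  haveI : Nonempty O := by
    obtain ⟨w⟩ := ‹Nonempty G.left›
    obtain ⟨o, -⟩ := hO.ge ⟨w, rfl⟩
    exact ⟨o⟩
  obtain ⟨W, hWne, -, _, _⟩ := FlatMisc.exists_flat_open g ⊤ Set.univ_nonempty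
  haveI : Surjective g := ⟨fun o => by
    obtain ⟨r, hr⟩ := hRr.ge (hO.le ⟨o, rfl⟩)
    refine ⟨r, jO.isEmbedding.injective ?_⟩
    rw [← Scheme.Hom.comp_apply, hg]
    exact hr⟩
  haveI : Mono (g ∣_ W) := MorphismProperty.of_isPullback (P := MorphismProperty.monomorphisms Scheme.{u})
    (isPullback_morphismRestrict g W).flip (MorphismProperty.monomorphisms.infer_property g)
  haveI : IsOpenImmersion (g ∣_ W) := IsOpenImmersion.of_flat_of_mono _
  haveI : Surjective (g ∣_ W) :=
    MorphismProperty.of_isPullback (P := @Surjective) (isPullback_morphismRestrict g W).flip inferInstance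
  haveI : IsIso (g ∣_ W) := IsOpenImmersion.isIso (g ∣_ W)
  obtain ⟨V', hV', hVW'⟩ := jO.isEmbedding.isInducing.isOpen_iff.mp W.2
  let V : X.left.Opens := ⟨V', hV'⟩
  obtain rfl : jO ⁻¹ᵁ V = W := TopologicalSpace.Opens.ext hVW'
  have hiV : UniversallyClosed (i.left ∣_ V) := by
    have h1 : UniversallyClosed ((jR ≫ i.left) ∣_ V) := by
      rw [← hg, morphismRestrict_comp]
      haveI : IsClosedImmersion (jO ∣_ V) :=
        MorphismProperty.of_isPullback (P := @IsClosedImmersion) (isPullback_morphismRestrict jO V).flip inferInstance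
      infer_instance
    rw [morphismRestrict_comp] at h1
    haveI := h1
    haveI : Surjective (jR ∣_ i.left ⁻¹ᵁ V) :=
      MorphismProperty.of_isPullback (P := @Surjective) (isPullback_morphismRestrict jR _).flip inferInstance
    exact UniversallyClosed.of_comp_surjective (jR ∣_ i.left ⁻¹ᵁ V) (i.left ∣_ V)
  have hfV : UniversallyClosed (f.left ∣_ V) := by
    rw [← hfpi, morphismRestrict_comp]
    haveI := hiV
    haveI : UniversallyClosed (p.left ∣_ i.left ⁻¹ᵁ V) :=
      MorphismProperty.of_isPullback (P := @UniversallyClosed) (isPullback_morphismRestrict p.left _).flip hp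
    infer_instance
  -- translations
  haveI : JacobsonSpace X.left := LocallyOfFiniteType.jacobsonSpace X.hom
  haveI : JacobsonSpace G.left := LocallyOfFiniteType.jacobsonSpace G.hom
  let T := fun z : 𝟙_ (Over (Spec (CommRingCat.of k))) ⟶ G => (RedHomogTop.transIso a z).hom.left
  let U : Option (𝟙_ (Over (Spec (CommRingCat.of k))) ⟶ G) → X.left.Opens := fun o => match o with
    | none => ⟨(Set.range f.left)ᶜ, hcl.isOpen_compl⟩
    | some z => T z ⁻¹ᵁ V
  refine IsZariskiLocalAtTarget.of_iSup_eq_top (P := @UniversallyClosed) U ?_ fun o => ?_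
  · rw [eq_top_iff]
    intro y _
    rw [TopologicalSpace.Opens.mem_iSup]
    by_cases hy : y ∈ Set.range f.left
    swap
    · exact ⟨none, hy⟩
    obtain ⟨o₀, ho₀⟩ := hWne
    obtain ⟨w₀, hw₀⟩ := hO.le ⟨o₀, rfl⟩
    obtain ⟨c₀, hc₀V, hc₀⟩ := nonempty_inter_closedPoints (Z := f.left ⁻¹' (V : Set X.left))
      ⟨w₀, by show f.left w₀ ∈ V; rw [hw₀]; exact ho₀⟩ (V.2.preimage f.left.continuous).isLocallyClosed
    obtain ⟨w, rfl⟩ := hy
    obtain ⟨c, hcl', hc⟩ := nonempty_inter_closedPoints (Z := closure {w}) ⟨_, subset_closure rfl⟩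
      isClosed_closure.isLocallyClosed
    obtain ⟨g₀, hg₀⟩ := RedHomogTop.exists_rational_of_closed c₀ hc₀
    obtain ⟨g₁, hg₁⟩ := RedHomogTop.exists_rational_of_closed c hc
    refine ⟨some (g₀ * g₁⁻¹), (specializes_iff_mem_closure.mpr hcl').mem_open
      ((T (g₀ * g₁⁻¹) ⁻¹ᵁ V).2.preimage f.left.continuous) ?_⟩
    have hkey : g₁ ≫ (((toUnit G ≫ (g₀ * g₁⁻¹)) * 𝟙 G : G ⟶ G)) = g₀ := by
      rw [MonObj.comp_mul g₁, Category.comp_id, ← Category.assoc, toUnit_unique (g₁ ≫ toUnit G) (𝟙 _),
        Category.id_comp, inv_mul_cancel_right]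
    show T (g₀ * g₁⁻¹) (f.left c) ∈ V
    rw [RedHomogTop.transIso_hom_apply, ← hg₁, ← GrpSchLib.left_comp_apply g₁, hkey, hg₀]
    exact hc₀V
  · rcases o with _ | z
    · haveI : IsEmpty ↥(f.left ⁻¹ᵁ U none).toScheme := ⟨fun w => w.2 ⟨w.1, rfl⟩⟩
      haveI : IsClosedImmersion (f.left ∣_ U none) := inferInstance
      infer_instance
    · let L : G ⟶ G := (toUnit G ≫ z) * 𝟙 G
      have e : f ≫ (RedHomogTop.transIso a z).hom = L ≫ f := by
        simp only [hf, RedHomogTop.transIso, RedHomogTop.trans, AlgGrp.Action.orbitMap, ← Category.assoc, comp_lift,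
          Category.comp_id, L]
        rw [show (lift (𝟙 G) (toUnit G ≫ x) ≫ a.act) ≫ toUnit X = toUnit G from toUnit_unique _ _, GrpSchLib.act_mul,
          show ((toUnit G ≫ z) * 𝟙 G) ≫ toUnit G = toUnit G from toUnit_unique _ _]
      haveI : IsIso L := by
        refine ⟨(toUnit G ≫ z⁻¹) * 𝟙 G, ?_, ?_⟩ <;>
        · rw [MonObj.comp_mul, ← Category.assoc, toUnit_unique (_ ≫ toUnit G) (toUnit G), Category.comp_id, ← _root_.mul_assoc,
            ← MonObj.comp_mul]
          simp
      haveI : IsIso L.left := inferInstanceAs (IsIso ((Over.forget _).map L))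
      haveI : UniversallyClosed ((f.left ≫ T z) ∣_ V) := by
        rw [show f.left ≫ T z = L.left ≫ f.left from congrArg CommaMorphism.left e, morphismRestrict_comp]
        haveI := hfV
        infer_instance
      rw [morphismRestrict_comp] at this
      exact (MorphismProperty.cancel_right_of_respectsIso (P := @UniversallyClosed) _ (T z ∣_ V)).mp this

end Groth.Agent.OrbitProper
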